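import Groth.Agent.AvgLib.Torsion
import Mathlib.FieldTheory.Galois.Infinite
import Mathlib.RingTheory.Noetherian.Basic
import Mathlib.RingTheory.FiniteType
import Groth.Agent.ExtMultLib.Descent

/-!
# Density of torsion points and descent of their values
-/

set_option autoImplicit false
set_option backward.isDefEq.respectTransparency false
set_option backward.isDefEq.respectTransparency.types false
set_option linter.style.haveILetI false

universe u

open TensorProduct WithConv

namespace Groth.Agent.AvgLib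

open ExtUnipLib (pre)
open DynLib (post post_apply)
open scoped DynLib

attribute [-instance] AlgHom.convGroup AlgHom.convInv

variable {k : Type u} [Field k] {B : Type u} [CommRing B] [HopfAlgebra k B]

/-- A smooth group of multiplicative type is split over the separable closure. -/
theorem exists_split (K : Type u) [Field K] [Algebra k K] [IsSepClosure k K] [Algebra.FiniteType k B]
    (hB : SGA3b.IsMultTypeConst k B) [Algebra.FormallySmooth k B] :
    ∃ (M : Type u) (_ : CommGroup M) (_ : K ⊗[k] B ≃ₐc[K] MonoidAlgebra K M),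
      Group.FG M ∧ _root_.IsReduced (MonoidAlgebra K M) := by
  obtain ⟨R, _, _, hff, hd⟩ := hB
  haveI := hff
  obtain ⟨k', _, _, _, _, M', _, hfg, hd'⟩ :=
    MultTypeLib.isotrivial_of_field k B inferInstance (MultTypeLib.isMultType_of_ff R hd)
  haveI : IsSepClosed K := IsSepClosure.sep_closed k
  let j : k' →ₐ[k] K := IsSepClosed.lift
  letI : Algebra k' K := j.toRingHom.toAlgebra
  haveI : IsScalarTower k k' K := IsScalarTower.of_algebraMap_eq fun x => (j.commutes x).symm
  obtain ⟨M, _, ⟨e⟩⟩ := MultTypeLib.isDiag_baseChange k' K (R := k) (A := B) ⟨M', _, hd'⟩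
  haveI : Algebra.FinitePresentation k B := Algebra.FinitePresentation.of_finiteType.mp inferInstance
  haveI : Algebra.Smooth k B := ⟨inferInstance, inferInstance⟩
  haveI : Algebra.Smooth K (K ⊗[k] B) := inferInstance
  haveI : _root_.IsReduced (K ⊗[k] B) := QRepLib.isReduced_of_smooth_algebra K _
  refine ⟨M, inferInstance, e, ?_, isReduced_of_injective e.symm e.symm.injective⟩
  have : Algebra.FiniteType K (MonoidAlgebra K M) :=
    (inferInstance : Algebra.FiniteType K (K ⊗[k] B)).of_surjective
      ((e : K ⊗[k] B →ₐc[K] MonoidAlgebra K M) : K ⊗[k] B →ₐ[K] MonoidAlgebra K M) e.surjective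
  exact Group.fg_iff_monoid_fg.mpr (MonoidAlgebra.finiteType_iff_fg.mp this)

section Ev

variable {S : Type u} [CommRing S] [Algebra k S]

/-- Evaluation at a point. -/
noncomputable def ev (h : WithConv (B →ₐ[k] S)) : S ⊗[k] B →ₐ[S] S := ((res (K := S) (k := k)).symm h).ofConv

theorem ev_tmul (h : WithConv (B →ₐ[k] S)) (s : S) (b : B) : ev h (s ⊗ₜ[k] b) = s * h.ofConv b :=
  res_symm_tmul h s b

theorem ev_map {S' : Type u} [CommRing S'] [Algebra k S'] (φ : S →ₐ[k] S') (h : WithConv (B →ₐ[k] S))
    (x : S ⊗[k] B) : ev (post φ h) (Algebra.TensorProduct.map φ (AlgHom.id k B) x) = φ (ev h x) := by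
  induction x using TensorProduct.induction_on with
  | zero => simp
  | tmul s b =>
    rw [Algebra.TensorProduct.map_tmul, ev_tmul, ev_tmul, map_mul]
    rfl
  | add x y hx hy => simp only [map_add, hx, hy]

end Ev

variable {K : Type u} [Field K] [Algebra k K] [IsSepClosed K] {M : Type u} [CommGroup M] [Group.FG M]
  [_root_.IsReduced (MonoidAlgebra K M)] (e : K ⊗[k] B ≃ₐc[K] MonoidAlgebra K M)
  {S : Type u} [CommRing S] [Algebra k S] [Algebra K S] [IsScalarTower k K S]

omit [IsSepClosed K] [Group.FG M] [_root_.IsReduced (MonoidAlgebra K M)] in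
/-- Every element is a combination of the group-like elements. -/
theorem exists_coeff (x : S ⊗[k] B) : ∃ c : M →₀ S, ∀ h : WithConv (B →ₐ[k] S),
    ev h x = c.sum fun m s => s * charOf e h m := by
  classical
  induction x using TensorProduct.induction_on with
  | zero => exact ⟨0, fun h => by simp⟩
  | add x y hx hy =>
    obtain ⟨c, hc⟩ := hx
    obtain ⟨d, hd⟩ := hy
    refine ⟨c + d, fun h => ?_⟩
    rw [map_add, hc, hd, Finsupp.sum_add_index (fun _ _ => zero_mul _) (fun _ _ _ _ => add_mul _ _ _)]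
  | tmul s b =>
    obtain ⟨w, hw⟩ : ∃ w, (e.symm : MonoidAlgebra K M →ₐc[K] K ⊗[k] B) w = (1 : K) ⊗ₜ[k] b :=
      ⟨_, e.toEquiv.symm_apply_apply _⟩
    suffices H : ∀ w : MonoidAlgebra K M, ∃ c : M →₀ S, ∀ h : WithConv (B →ₐ[k] S),
        ((res (k := k) (K := K)).symm h).ofConv ((e.symm : MonoidAlgebra K M →ₐc[K] K ⊗[k] B) w) =
          c.sum fun m s => s * charOf e h m by
      obtain ⟨c, hc⟩ := H w
      refine ⟨s • c, fun h => ?_⟩
      have h1 := hc h
      rw [hw, res_symm_tmul, map_one, one_mul] at h1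
      rw [ev_tmul, h1, Finsupp.sum_smul_index fun _ => zero_mul _, Finsupp.mul_sum]
      exact Finset.sum_congr rfl fun m _ => (mul_assoc _ _ _).symm
    intro w
    induction w using MonoidAlgebra.induction_linear with
    | zero => exact ⟨0, fun h => by simp⟩
    | add x y hx hy =>
      obtain ⟨c, hc⟩ := hx
      obtain ⟨d, hd⟩ := hy
      refine ⟨c + d, fun h => ?_⟩
      rw [map_add, map_add, hc, hd, Finsupp.sum_add_index (fun _ _ => zero_mul _) (fun _ _ _ _ => add_mul _ _ _)]
    | single m a =>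
      refine ⟨Finsupp.single m (algebraMap K S a), fun h => ?_⟩
      rw [Finsupp.sum_single_index (zero_mul _), charOf_apply, show MonoidAlgebra.single m a = a • MonoidAlgebra.single m 1 by
        rw [MonoidAlgebra.smul_single, smul_eq_mul, mul_one], map_smul, map_smul, ← Algebra.smul_def]
      rfl

omit [IsSepClosed K] [Group.FG M] [_root_.IsReduced (MonoidAlgebra K M)] in
include e in
/-- Elements are separated by all points. -/
theorem eq_zero_of_forall_coeff (x : K ⊗[k] B) (h : ∀ c : M →₀ K,
    (∀ h' : WithConv (B →ₐ[k] K), ev h' x = c.sum fun m s => s * charOf e h' m) → c = 0) : x = 0 := by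
  classical
  obtain ⟨w, hw⟩ : ∃ w, (e.symm : MonoidAlgebra K M →ₐc[K] K ⊗[k] B) w = x := ⟨e x, e.toEquiv.symm_apply_apply _⟩
  have key : ∀ w : MonoidAlgebra K M, ∃ c : M →₀ K, (c = 0 → w = 0) ∧ ∀ h' : WithConv (B →ₐ[k] K),
      ev h' ((e.symm : MonoidAlgebra K M →ₐc[K] K ⊗[k] B) w) = c.sum fun m s => s * charOf e h' m := by
    intro w
    refine ⟨w.coeff, fun h0 => MonoidAlgebra.coeff_injective (h0.trans MonoidAlgebra.coeff_zero.symm), fun h' => ?_⟩
    induction w using MonoidAlgebra.induction_linear with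
    | zero => simp
    | add x y hx hy =>
      rw [map_add, map_add, hx, hy, MonoidAlgebra.coeff_add,
        Finsupp.sum_add_index (fun _ _ => zero_mul _) (fun _ _ _ _ => add_mul _ _ _)]
    | single m a =>
      rw [MonoidAlgebra.coeff_single, Finsupp.sum_single_index (zero_mul _), charOf_apply,
        show MonoidAlgebra.single m a = a • MonoidAlgebra.single m 1 by
          rw [MonoidAlgebra.smul_single, smul_eq_mul, mul_one], map_smul, map_smul]
      rfl
  obtain ⟨c, hc0, hc⟩ := key w
  rw [← hw, hc0 (h c (hw ▸ hc)), map_zero]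

include e in
/-- Torsion points are dense. -/
theorem eq_zero_of_forall_ev (x : K ⊗[k] B) (h : ∀ g : WithConv (B →ₐ[k] K), IsTor g → ev g x = 0) : x = 0 := by
  classical
  refine eq_zero_of_forall_coeff e x fun c hc => ?_
  have hli := linearIndependent_charOf (S := K) e
  rw [linearIndependent_iff] at hli
  refine hli c (funext fun g => ?_)
  rw [Finsupp.linearCombination_apply, Finsupp.sum, Finset.sum_apply, Pi.zero_apply]
  exact ((hc g.1).symm.trans (h g.1 g.2))

variable [Algebra.IsSeparable k K] {Ω : Type u} [Field Ω] [Algebra k Ω] [Algebra K Ω] [IsScalarTower k K Ω]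

include e in
/-- Values at torsion points over the separable closure detect elements over a larger field. -/
theorem eq_zero_of_forall_ev' (x : Ω ⊗[k] B)
    (h : ∀ g : WithConv (B →ₐ[k] K), IsTor g → ev (post (IsScalarTower.toAlgHom k K Ω) g) x = 0) : x = 0 := by
  classical
  have hbasis : ∀ z : Ω ⊗[k] B, ∃ c : Module.Free.ChooseBasisIndex K Ω →₀ K ⊗[k] B,
      z = c.sum fun i z => (Module.Free.chooseBasis K Ω i) •
        Algebra.TensorProduct.map (IsScalarTower.toAlgHom k K Ω) (AlgHom.id k B) z := by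
    intro z
    induction z using TensorProduct.induction_on with
    | zero => exact ⟨0, by simp⟩
    | add x y hx hy =>
      obtain ⟨c, rfl⟩ := hx
      obtain ⟨d, rfl⟩ := hy
      exact ⟨c + d, by rw [Finsupp.sum_add_index (fun _ _ => by simp) (fun _ _ _ _ => by simp [smul_add])]⟩
    | tmul s b =>
      refine ⟨((Module.Free.chooseBasis K Ω).repr s).mapRange (fun a => a ⊗ₜ[k] b) (by simp), ?_⟩
      rw [Finsupp.sum_mapRange_index (fun i => by simp)]
      conv_lhs => rw [← (Module.Free.chooseBasis K Ω).linearCombination_repr s, Finsupp.linearCombination_apply,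
        Finsupp.sum, TensorProduct.sum_tmul]
      refine Finset.sum_congr rfl fun i _ => ?_
      beta_reduce
      rw [Algebra.TensorProduct.map_tmul, TensorProduct.smul_tmul', smul_eq_mul, Algebra.smul_def, mul_comm]
      rfl
  obtain ⟨c, rfl⟩ := hbasis x
  refine Finset.sum_eq_zero fun i hi => ?_
  beta_reduce
  rw [eq_zero_of_forall_ev e (c i) fun g hg => ?_, map_zero, smul_zero]
  have h1 := h g hg
  rw [Finsupp.sum, map_sum] at h1
  simp only [map_smul, ev_map, smul_eq_mul] at h1
  have h2 := linearIndependent_iff'.mp (Module.Free.chooseBasis K Ω).linearIndependent c.support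
    (fun j => ev g (c j)) (by
      rw [← h1]
      exact Finset.sum_congr rfl fun j _ => by rw [Algebra.smul_def, mul_comm]; rfl) i hi
  exact h2

include e in
/-- An element with equivariant values at the torsion points is defined over the ground field. -/
theorem exists_eq_one_tmul [IsGalois k K] (x : Ω ⊗[k] B)
    (v : WithConv (B →ₐ[k] K) → K)
    (hv : ∀ g, IsTor g → ev (post (IsScalarTower.toAlgHom k K Ω) g) x = algebraMap K Ω (v g))
    (hequiv : ∀ (σ : K ≃ₐ[k] K) g, IsTor g → σ (v g) = v (post (σ : K →ₐ[k] K) g)) :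
    ∃ b : B, (1 : Ω) ⊗ₜ[k] b = x := by
  classical
  obtain ⟨L, hL⟩ : ∃ L : Ω →ₗ[K] K, L.comp (Algebra.linearMap K Ω) = LinearMap.id :=
    LinearMap.exists_leftInverse_of_injective _ (LinearMap.ker_eq_bot.mpr (algebraMap K Ω).injective)
  let y : K ⊗[k] B := (L.restrictScalars k).rTensor B x
  have hy : ∀ g, IsTor g → ev g y = v g := fun g hg => by
    have h1 : ∀ z : Ω ⊗[k] B,
        ev g ((L.restrictScalars k).rTensor B z) = L (ev (post (IsScalarTower.toAlgHom k K Ω) g) z) := fun z => by
      induction z using TensorProduct.induction_on with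
      | zero => simp
      | add a b ha hb => simp only [map_add, ha, hb]
      | tmul w b =>
        rw [LinearMap.rTensor_tmul, ev_tmul, ev_tmul]
        show L w * g.ofConv b = L (w * algebraMap K Ω (g.ofConv b))
        rw [mul_comm w, ← Algebra.smul_def, map_smul, smul_eq_mul, mul_comm]
    rw [h1, hv g hg]
    exact LinearMap.congr_fun hL (v g)
  have hx : Algebra.TensorProduct.map (IsScalarTower.toAlgHom k K Ω) (AlgHom.id k B) y = x := by
    rw [← sub_eq_zero]
    refine eq_zero_of_forall_ev' e _ fun g hg => ?_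
    rw [map_sub, ev_map, hv g hg, hy g hg, IsScalarTower.toAlgHom_apply, sub_self]
  obtain ⟨b, hb⟩ := ExtMultLib.exists_one_tmul_of_fixed y fun σ => by
    rw [← sub_eq_zero]
    refine eq_zero_of_forall_ev e _ fun g hg => ?_
    obtain ⟨n, hn, hgn⟩ := hg
    have hg' : IsTor (post (σ.symm : K →ₐ[k] K) g) := ⟨n, hn, by rw [← map_pow, hgn, map_one]⟩
    have hgg : g = post (σ : K →ₐ[k] K) (post (σ.symm : K →ₐ[k] K) g) :=
      WithConv.ofConv_injective (AlgHom.ext fun c => (σ.apply_symm_apply (g.ofConv c)).symm)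
    have h2 : ((σ : K →ₐ[k] K).toLinearMap.rTensor B y) =
        Algebra.TensorProduct.map (σ : K →ₐ[k] K) (AlgHom.id k B) y := rfl
    rw [map_sub, sub_eq_zero, h2, hy g ⟨n, hn, hgn⟩]
    conv_lhs => rw [hgg]
    rw [ev_map, hy _ hg']
    show σ (v _) = _
    rw [hequiv σ _ hg', ← hgg]
  refine ⟨b, ?_⟩
  rw [← hx, ← hb, Algebra.TensorProduct.map_tmul, map_one]
  rfl

omit [HopfAlgebra k B] in
/-- Finitely many transport conditions imply all of them. -/
theorem exists_finset_transport {A : Type u} [CommRing A] [HopfAlgebra k A] [Algebra.FiniteType k A]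
    (F : Type u) [Field F] [Algebra k F] {ι : Type u} (f g : ι → WithConv (A →ₐ[k] F)) :
    ∃ s : Finset ι, ∀ u : WithConv (A →ₐ[k] F),
      (∀ i ∈ s, u * f i * u⁻¹ = g i) → ∀ i, u * f i * u⁻¹ = g i := by
  classical
  haveI : IsNoetherianRing (F ⊗[k] A) := Algebra.FiniteType.isNoetherianRing F _
  let u₀ : WithConv (A →ₐ[k] F ⊗[k] A) := toConv Algebra.TensorProduct.includeRight
  let c : WithConv (A →ₐ[k] F) →* WithConv (A →ₐ[k] F ⊗[k] A) :=
    post ((Algebra.TensorProduct.includeLeft : F →ₐ[F] F ⊗[k] A).restrictScalars k)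
  let D : ι × A → F ⊗[k] A := fun p => (u₀ * c (f p.1) * u₀⁻¹).ofConv p.2 - (c (g p.1)).ofConv p.2
  obtain ⟨s', hs', hspan⟩ := (Submodule.fg_span_iff_fg_span_finset_subset (Set.range D)).mp
    (IsNoetherian.noetherian (Submodule.span (F ⊗[k] A) (Set.range D)))
  choose p hp using fun z : s' => hs' z.2
  refine ⟨Finset.univ.image fun z => (p z).1, fun u hu i => ?_⟩
  let φ : F ⊗[k] A →ₐ[k] F := (Algebra.TensorProduct.lift (AlgHom.id F F) u.ofConv fun _ _ => Commute.all _ _).restrictScalars k
  have hφ0 : post φ u₀ = u := WithConv.ofConv_injective (AlgHom.ext fun a => by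
    show φ ((1 : F) ⊗ₜ[k] a) = _
    simp [φ])
  have hφc : ∀ x, post φ (c x) = x := fun x => WithConv.ofConv_injective (AlgHom.ext fun a => by
    show φ (x.ofConv a ⊗ₜ[k] (1 : A)) = _
    simp [φ])
  have hD : ∀ j a, φ (D (j, a)) = (u * f j * u⁻¹).ofConv a - (g j).ofConv a := fun j a => by
    have h1 : post φ (u₀ * c (f j) * u₀⁻¹) = u * f j * u⁻¹ := by rw [map_mul, map_mul, map_inv, hφ0, hφc]
    rw [map_sub, ← h1]
    congr 1
    exact AlgHom.congr_fun (congrArg WithConv.ofConv (hφc (g j))) a
  refine WithConv.ofConv_injective (AlgHom.ext fun a => sub_eq_zero.mp ((hD i a).symm.trans ?_))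
  have hmem : D (i, a) ∈ Submodule.span (F ⊗[k] A) (s' : Set (F ⊗[k] A)) :=
    hspan ▸ Submodule.subset_span ⟨(i, a), rfl⟩
  refine (Submodule.span_le.mpr fun z hz => ?_ : _ ≤ RingHom.ker φ.toRingHom) hmem
  show φ ((⟨z, hz⟩ : s') : F ⊗[k] A) = 0
  rw [← hp ⟨z, hz⟩, ← Prod.mk.eta (p := p ⟨z, hz⟩), hD,
    hu _ (Finset.mem_image_of_mem (fun z => (p z).1) (Finset.mem_univ (⟨z, hz⟩ : s'))), sub_self]

end Groth.Agent.AvgLib
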