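import Groth.Agent.AvgLib.Descent

/-!
# The finite groups of torsion points
-/

set_option autoImplicit false
set_option backward.isDefEq.respectTransparency false
set_option backward.isDefEq.respectTransparency.types false
set_option linter.style.haveILetI false

universe u

open TensorProduct WithConv

namespace Groth.Agent.AvgLib

open ExtUnipLib (pre)
open DynLib (post post_apply)
open scoped DynLib

attribute [-instance] AlgHom.convGroup AlgHom.convInv

variable {k : Type u} [Field k] {B : Type u} [CommRing B] [HopfAlgebra k B]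
  {S : Type u} [CommRing S] [Algebra k S]

variable (B S) in
/-- The points killed by `n`. -/
noncomputable def torN [Coalgebra.IsCocomm k B] (n : ℕ) : Subgroup (WithConv (B →ₐ[k] S)) where
  carrier := {h | h ^ n = 1}
  one_mem' := one_pow n
  mul_mem' := fun {a b} ha hb => by
    show (a * b) ^ n = 1
    rw [mul_pow, show a ^ n = 1 from ha, show b ^ n = 1 from hb, one_mul]
  inv_mem' := fun {a} ha => by
    show a⁻¹ ^ n = 1
    rw [inv_pow, show a ^ n = 1 from ha, inv_one]

noncomputable instance [Coalgebra.IsCocomm k B] (n : ℕ) : CommGroup (torN B S (k := k) n) :=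
  { (inferInstance : Group (torN B S (k := k) n)) with mul_comm := fun a b => Subtype.ext (mul_comm a.1 b.1) }

theorem mem_torN [Coalgebra.IsCocomm k B] {n : ℕ} {h : WithConv (B →ₐ[k] S)} : h ∈ torN B S n ↔ h ^ n = 1 := Iff.rfl

theorem card_ne_zero [Coalgebra.IsCocomm k B] {n : ℕ} (hn : (n : k) ≠ 0) [Fintype (torN B S (k := k) n)] :
    (Fintype.card (torN B S (k := k) n) : k) ≠ 0 := by
  intro h
  obtain ⟨p, hp⟩ := CharP.exists k
  rw [CharP.cast_eq_zero_iff k p] at h
  rcases CharP.char_is_prime_or_zero k p with hpp | rfl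
  · haveI := Fact.mk hpp
    obtain ⟨x, hx⟩ := exists_prime_orderOf_dvd_card p h
    refine hn ((CharP.cast_eq_zero_iff k p n).mpr ?_)
    rw [← hx]
    exact orderOf_dvd_of_pow_eq_one (Subtype.ext (by rw [SubmonoidClass.coe_pow]; exact x.2))
  · exact Fintype.card_ne_zero (Nat.eq_zero_of_zero_dvd h)

/-- The action of an automorphism on torsion points. -/
noncomputable def torGal [Coalgebra.IsCocomm k B] (n : ℕ) (σ : S ≃ₐ[k] S) :
    torN B S (k := k) n ≃* torN B S (k := k) n where
  toFun h := ⟨post (σ : S →ₐ[k] S) h.1, by rw [mem_torN, ← map_pow, mem_torN.mp h.2, map_one]⟩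
  invFun h := ⟨post (σ.symm : S →ₐ[k] S) h.1, by rw [mem_torN, ← map_pow, mem_torN.mp h.2, map_one]⟩
  left_inv h := Subtype.ext (WithConv.ofConv_injective (AlgHom.ext fun b => σ.symm_apply_apply (h.1.ofConv b)))
  right_inv h := Subtype.ext (WithConv.ofConv_injective (AlgHom.ext fun b => σ.apply_symm_apply (h.1.ofConv b)))
  map_mul' a b := Subtype.ext (map_mul (post (σ : S →ₐ[k] S)) a.1 b.1)

theorem post_pre {A : Type u} [CommRing A] [HopfAlgebra k A] {S' : Type u} [CommRing S'] [Algebra k S']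
    (φ : S →ₐ[k] S') (f : B →ₐc[k] A) (u : WithConv (A →ₐ[k] S)) : post φ (pre f u) = pre f (post φ u) := rfl

theorem post_mem_kerPts {A : Type u} [CommRing A] [HopfAlgebra k A] {S' : Type u} [CommRing S'] [Algebra k S']
    (φ : S →ₐ[k] S') {ψ : B →ₐc[k] A} {u : WithConv (A →ₐ[k] S)} (hu : u ∈ kerPts S ψ) :
    post φ u ∈ kerPts S' ψ := by
  rw [mem_kerPts, ← post_pre, (mem_kerPts ψ).mp hu, map_one]

theorem exists_ne_zero_forall_pow {ι : Type u} (s : Finset ι) (h : ι → WithConv (B →ₐ[k] S))
    (ht : ∀ i, IsTor (h i)) : ∃ N : ℕ, (N : k) ≠ 0 ∧ ∀ i ∈ s, h i ^ N = 1 := by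
  classical
  choose n hn hpow using ht
  refine ⟨∏ i ∈ s, n i, ?_, fun i hi => ?_⟩
  · rw [Nat.cast_prod]
    exact Finset.prod_ne_zero_iff.mpr fun i _ => hn i
  · obtain ⟨c, hc⟩ := Finset.dvd_prod_of_mem n hi
    rw [hc, pow_mul, hpow, one_pow]

end Groth.Agent.AvgLib
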