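import Mathlib.GroupTheory.GroupAction.Defs
import Mathlib.Algebra.BigOperators.Group.Finset.Basic
import Mathlib.Algebra.Group.Subgroup.Basic
import Mathlib.Data.Fintype.Card
import Mathlib.Tactic.Group

/-!
# Averaging over a finite group with values in a uniquely divisible commutative normal subgroup
-/

set_option autoImplicit false

universe u v w

open Finset

namespace Groth.Agent.AvgLib

variable {G : Type u} [Group G] {U : Subgroup G} [U.Normal] {P : Type v} [CommGroup P] [Fintype P]

/-- Conjugation on a normal subgroup. -/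
def act (g : G) : U →* U where
  toFun x := ⟨g * x * g⁻¹, ‹U.Normal›.conj_mem x x.2 g⟩
  map_one' := Subtype.ext (by simp)
  map_mul' x y := Subtype.ext (by simp [mul_assoc])

omit [CommGroup P] [Fintype P] in
theorem coe_act (g : G) (x : U) : (act g x : G) = g * x * g⁻¹ := rfl

variable (hU : ∀ x y : U, x * y = y * x) (hroot : Function.Bijective fun x : U => x ^ Fintype.card P)

/-- A compatible pair of an endomorphism of the group and a permutation of the finite group. -/
structure Equivariant (α : G →* G) (β : P ≃* P) (U : Subgroup G) (f : P → G) : Prop where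
  maps : ∀ x ∈ U, α x ∈ U
  eq : ∀ a, α (f a) = f (β a)

include hU hroot in
/-- A section modulo the subgroup is corrected to a homomorphism. -/
theorem exists_hom (s₀ : P → G) (h : ∀ a b, s₀ a * s₀ b * (s₀ (a * b))⁻¹ ∈ U) :
    ∃ s : P →* G, (∀ a, s a * (s₀ a)⁻¹ ∈ U) ∧
      ∀ (α : G →* G) (β : P ≃* P), Equivariant α β U s₀ → ∀ a, α (s a) = s (β a) := by
  classical
  letI : CommGroup U := { (inferInstance : Group U) with mul_comm := hU }
  let f : P → P → U := fun a b => ⟨_, h a b⟩
  let F : P → U := fun a => ∏ c, f a c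
  let n := Fintype.card P
  choose w hw using fun a => hroot.2 (F a)
  have hco : ∀ a b c, f a b * f (a * b) c = act (s₀ a) (f b c) * f a (b * c) := fun a b c => by
    refine Subtype.ext ?_
    simp only [f, Subgroup.coe_mul, coe_act, mul_assoc a b c]
    group
  have hF : ∀ a b, f a b ^ n * F (a * b) = act (s₀ a) (F b) * F a := fun a b => by
    simp only [F, map_prod]
    rw [show f a b ^ n = ∏ _c : P, f a b from (prod_const (f a b)).symm, ← prod_mul_distrib,
      ← Equiv.prod_comp (Equiv.mulLeft b) (fun c => f a c), ← prod_mul_distrib]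
    exact prod_congr rfl fun c _ => hco a b c
  have hW : ∀ a b, f a b * w (a * b) = act (s₀ a) (w b) * w a := fun a b => hroot.1 (by
    simp only [mul_pow, ← map_pow, hw]
    exact hF a b)
  let g : P → G := fun a => ((w a)⁻¹ : U) * s₀ a
  have hg : ∀ a b, g (a * b) = g a * g b := fun a b => by
    have e1 : ((w (a * b))⁻¹ : U) = (w a)⁻¹ * (act (s₀ a) (w b))⁻¹ * f a b := by
      rw [← mul_inv_rev, ← hW a b, mul_inv_rev, inv_mul_cancel_right]
    show ((w (a * b))⁻¹ : U) * s₀ (a * b) = ((w a)⁻¹ : U) * s₀ a * (((w b)⁻¹ : U) * s₀ b)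
    rw [e1]
    simp only [f, Subgroup.coe_mul, Subgroup.coe_inv, coe_act]
    group
  refine ⟨MonoidHom.mk' g hg, fun a => ?_, fun α β hαβ a => ?_⟩
  · show ((w a)⁻¹ : U) * s₀ a * (s₀ a)⁻¹ ∈ U
    rw [mul_inv_cancel_right]
    exact ((w a)⁻¹).2
  let αU : U →* U := (α.comp U.subtype).codRestrict U fun x => hαβ.maps x x.2
  have hf : ∀ b c, αU (f b c) = f (β b) (β c) := fun b c => Subtype.ext (by
    show α (s₀ b * s₀ c * (s₀ (b * c))⁻¹) = s₀ (β b) * s₀ (β c) * (s₀ (β b * β c))⁻¹
    rw [map_mul, map_mul, map_inv, hαβ.eq, hαβ.eq, hαβ.eq, map_mul])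
  have hw' : αU (w a) = w (β a) := hroot.1 (by
    simp only [← map_pow, hw, F, map_prod, hf]
    exact Equiv.prod_comp β.toEquiv (fun c => f (β a) c))
  show α (((w a)⁻¹ : U) * s₀ a) = ((w (β a))⁻¹ : U) * s₀ (β a)
  rw [map_mul, hαβ.eq, Subgroup.coe_inv, Subgroup.coe_inv, map_inv, ← hw']
  rfl

include hU hroot in
/-- Homomorphisms congruent modulo the subgroup are conjugate. -/
theorem exists_conj (s t : P →* G) (h : ∀ a, t a * (s a)⁻¹ ∈ U) :
    ∃ u ∈ U, (∀ a, t a = u * s a * u⁻¹) ∧
      ∀ (α : G →* G) (β : P ≃* P), Equivariant α β U s → (∀ a, α (t a) = t (β a)) → α u = u := by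
  classical
  letI : CommGroup U := { (inferInstance : Group U) with mul_comm := hU }
  let c : P → U := fun a => ⟨_, h a⟩
  obtain ⟨u, hu⟩ := hroot.2 (∏ a, c a)
  have hco : ∀ a b, c (a * b) = c a * act (s a) (c b) := fun a b => by
    refine Subtype.ext ?_
    simp only [c, Subgroup.coe_mul, coe_act, map_mul]
    group
  have hc : ∀ a, u = c a * act (s a) u := fun a => hroot.1 (by
    simp only [mul_pow, ← map_pow, hu, map_prod]
    rw [show c a ^ Fintype.card P = ∏ _b : P, c a from (prod_const (c a)).symm, ← prod_mul_distrib,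
      ← Equiv.prod_comp (Equiv.mulLeft a) c]
    exact prod_congr rfl fun b _ => hco a b)
  refine ⟨u, u.2, fun a => ?_, fun α β hαβ hαt => ?_⟩
  · have h1 : (u : G) = t a * (s a)⁻¹ * (s a * u * (s a)⁻¹) := congrArg Subtype.val (hc a)
    calc t a = t a * (s a)⁻¹ * (s a * u * (s a)⁻¹) * s a * (u : G)⁻¹ := by group
      _ = u * s a * (u : G)⁻¹ := by rw [← h1]
  let αU : U →* U := (α.comp U.subtype).codRestrict U fun x => hαβ.maps x x.2
  have hf : ∀ b, αU (c b) = c (β b) := fun b => Subtype.ext (by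
    show α (t b * (s b)⁻¹) = t (β b) * (s (β b))⁻¹
    rw [map_mul, map_inv, hαβ.eq, hαt])
  exact congrArg Subtype.val (hroot.1 (show αU u ^ Fintype.card P = u ^ Fintype.card P by
    rw [← map_pow]
    simp only [hu, map_prod, hf]
    exact Equiv.prod_comp β.toEquiv c))

end Groth.Agent.AvgLib
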