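import Groth.Agent.AvgLib.Finite
import Groth.Agent.ExtUnipLib.Main

/-!
# Extensions by commutative unipotent groups with a scheme-theoretic section are trivial
-/

set_option autoImplicit false
set_option backward.isDefEq.respectTransparency false
set_option backward.isDefEq.respectTransparency.types false
set_option linter.style.haveILetI false
set_option maxHeartbeats 1000000

universe u

open TensorProduct WithConv

namespace Groth.Agent.AvgLib

open ExtUnipLib (pre pt pt_apply post_pt bc)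
open DynLib (post post_apply)
open scoped DynLib

attribute [-instance] AlgHom.convGroup AlgHom.convInv

variable {k : Type u} [Field k]

/-- The retraction over an algebraically closed field, in the original coordinates. -/
theorem exists_retraction_algClosed {Ω : Type u} [Field Ω] [IsAlgClosed Ω] [Algebra k Ω] {A B : Type u} [CommRing A]
    [HopfAlgebra k A] [Algebra.FiniteType k A] [CommRing B] [HopfAlgebra k B] [Algebra.FiniteType k B]
    (hB : SGA3b.IsMultTypeConst k B) (ψ : B →ₐc[k] A) (hψ : Function.Injective ψ) (J : Ideal A) [J.IsHopfIdeal k]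
    (hJ : J = Ideal.map (ψ : B →+* A) (RingHom.ker (Bialgebra.counitAlgHom k B)))
    (hU : HopfRep.IsUnipotent k (A ⧸ J)) :
    ∃ r : Ω ⊗[k] A →ₐc[Ω] Ω ⊗[k] B, ∀ b, r (bc Ω ψ b) = b := by
  classical
  let A' := Ω ⊗[k] A
  haveI : Algebra.FiniteType Ω A' := inferInstance
  obtain ⟨M, _, ⟨eB⟩⟩ := ExtUnipLib.isDiag_algClosed (K := Ω) hB
  let ψ' : MonoidAlgebra Ω M →ₐc[Ω] A' := (bc Ω ψ).comp (eB.symm : MonoidAlgebra Ω M →ₐc[Ω] Ω ⊗[k] B)
  have hψ' : Function.Injective ψ' := (ExtUnipLib.bc_injective ψ hψ).comp eB.symm.injective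
  let J' : Ideal A' :=
    Ideal.map (ψ' : MonoidAlgebra Ω M →+* A') (RingHom.ker (Bialgebra.counitAlgHom Ω (MonoidAlgebra Ω M)))
  haveI : J'.IsHopfIdeal Ω := TakeuchiLib.isHopfIdeal_map ψ'
  have hJ' : ∀ z, z ∈ J' ↔ bc Ω (Bialgebra.Quotient.mkBialgHom (R := k) J) z = 0 := fun z => by
    rw [← ExtUnipLib.mem_map_bc_iff J ψ hJ]
    have : J' = Ideal.map (bc Ω ψ : Ω ⊗[k] B →+* A') (RingHom.ker (Bialgebra.counitAlgHom Ω (Ω ⊗[k] B))) := by
      refine le_antisymm (Ideal.map_le_iff_le_comap.mpr fun b hb => ?_) (Ideal.map_le_iff_le_comap.mpr fun b hb => ?_)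
      · exact Ideal.mem_map_of_mem (bc Ω ψ : Ω ⊗[k] B →+* A') (RingHom.mem_ker.mpr
          ((CoalgHomClass.counit_comp_apply (eB.symm : MonoidAlgebra Ω M →ₐc[Ω] Ω ⊗[k] B) b).trans hb))
      · have h2 := Ideal.mem_map_of_mem (ψ' : MonoidAlgebra Ω M →+* A') (RingHom.mem_ker.mpr
          ((CoalgHomClass.counit_comp_apply (eB : Ω ⊗[k] B →ₐc[Ω] MonoidAlgebra Ω M) b).trans hb) :
            eB b ∈ RingHom.ker (Bialgebra.counitAlgHom Ω (MonoidAlgebra Ω M)))
        show bc Ω ψ b ∈ J'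
        rw [show bc Ω ψ b = bc Ω ψ (eB.symm (eB b)) from congrArg _ (eB.toEquiv.symm_apply_apply b).symm]
        exact h2
    rw [this]
  obtain ⟨r, hr⟩ := ExtUnipLib.exists_retraction ψ' hψ' J' rfl (ExtUnipLib.isUnipotent_bc J ψ hJ hU J' hJ')
  refine ⟨(eB.symm : MonoidAlgebra Ω M →ₐc[Ω] Ω ⊗[k] B).comp r, fun b => ?_⟩
  show eB.symm (r (bc Ω ψ b)) = b
  have h := hr (eB b)
  rw [show ψ' (eB b) = bc Ω ψ b from congrArg _ (eB.toEquiv.symm_apply_apply b)] at h
  rw [h]
  exact eB.toEquiv.symm_apply_apply b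

variable {A B : Type u} [CommRing A] [HopfAlgebra k A] [Algebra.FiniteType k A] [CommRing B] [HopfAlgebra k B]
  [Algebra.FiniteType k B] [Algebra.FormallySmooth k B]

/-- An extension with commutative unipotent kernel and a scheme-theoretic section is trivial. -/
theorem exists_retraction_comm (hB : SGA3b.IsMultTypeConst k B) (ψ : B →ₐc[k] A) (hψ : Function.Injective ψ)
    (J : Ideal A) [J.IsHopfIdeal k] (hJ : J = Ideal.map (ψ : B →+* A) (RingHom.ker (Bialgebra.counitAlgHom k B)))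
    (hU : HopfRep.IsUnipotent k (A ⧸ J)) [Coalgebra.IsCocomm k (A ⧸ J)]
    (σ : A →ₐ[k] B) (hσ : ∀ b, σ (ψ b) = b) : ∃ r : A →ₐc[k] B, r.comp ψ = BialgHom.id k B := by
  classical
  let K := SeparableClosure k
  haveI : IsSepClosed K := IsSepClosure.sep_closed k
  haveI : IsGalois k K := inferInstance
  let Ω := AlgebraicClosure K
  haveI := isCocomm_of_multTypeConst hB
  obtain ⟨M, _, e, hfg, hred⟩ := exists_split K hB
  haveI := hfg
  haveI := hred
  obtain ⟨r₀, hr₀⟩ := exists_retraction_algClosed (Ω := Ω) hB ψ hψ J hJ hU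
  let incl : K →ₐ[k] Ω := IsScalarTower.toAlgHom k K Ω
  let R₀ : WithConv (B →ₐ[k] Ω) →* WithConv (A →ₐ[k] Ω) :=
    ((res (k := k) (K := Ω) (C := A) (S := Ω)).toMonoidHom.comp (pre (S := Ω) r₀)).comp
      (res (k := k) (K := Ω) (C := B) (S := Ω)).symm.toMonoidHom
  have hR₀ : ∀ g, pre ψ (R₀ g) = g := fun g => WithConv.ofConv_injective (AlgHom.ext fun b => by
    show ((res (k := k) (K := Ω)).symm g).ofConv (r₀ ((1 : Ω) ⊗ₜ[k] ψ b)) = g.ofConv b
    rw [← ExtUnipLib.bc_tmul, hr₀, res_symm_tmul, map_one, one_mul])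
  obtain ⟨s, hs⟩ := exists_finset_transport Ω (A := A) (ι := {g : WithConv (B →ₐ[k] K) // IsTor g})
    (fun g => R₀ (post incl g.1)) (fun g => R₀ (post incl g.1))
  obtain ⟨N, hN, hsN⟩ := exists_ne_zero_forall_pow (k := k) (B := B) s (fun g => g.1) (fun g => g.2)
  -- homomorphisms on torsion
  have hsec : ∀ n : ℕ, (n : k) ≠ 0 → Fintype (torN B K (k := k) n) := fun n hn => by
    haveI : Finite (torN B K (k := k) n) := finite_torsion e (Nat.pos_of_ne_zero fun h => hn (by rw [h, Nat.cast_zero]))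
    exact Fintype.ofFinite _
  have hhom : ∀ n : ℕ, (n : k) ≠ 0 → ∃ t : torN B K (k := k) n →* WithConv (A →ₐ[k] K),
      (∀ a, pre ψ (t a) = a.1) ∧ ∀ (γ : K ≃ₐ[k] K) a, post (γ : K →ₐ[k] K) (t a) = t (torGal n γ a) := by
    intro n hn
    haveI := hsec n hn
    let s₀ : torN B K (k := k) n → WithConv (A →ₐ[k] K) := fun a => toConv (a.1.ofConv.comp σ)
    have hs₀ : ∀ a, pre ψ (s₀ a) = a.1 := fun a =>
      WithConv.ofConv_injective (AlgHom.ext fun b => congrArg a.1.ofConv (hσ b))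
    obtain ⟨t, ht, hteq⟩ := exists_hom (U := kerPts K ψ) (kerPts_comm hJ)
      (kerPts_pow_bijective hJ hU (card_ne_zero hn)) s₀ (fun a b => by
        rw [mem_kerPts, map_mul, map_mul, map_inv, hs₀, hs₀, hs₀, Subgroup.coe_mul, mul_inv_cancel])
    refine ⟨t, fun a => ?_, fun γ a => hteq _ (torGal n γ) ⟨fun x hx => post_mem_kerPts _ hx, fun b => rfl⟩ a⟩
    have h := (mem_kerPts ψ).mp (ht a)
    rw [map_mul, map_inv, hs₀, mul_inv_eq_one] at h
    exact h
  haveI := hsec N hN
  obtain ⟨sN, hsN1, hsN2⟩ := hhom N hN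
  obtain ⟨u, hu, huconj, -⟩ := exists_conj (U := kerPts Ω ψ) (kerPts_comm hJ)
    (kerPts_pow_bijective hJ hU (card_ne_zero hN))
    ((R₀.comp (post incl)).comp (torN B K (k := k) N).subtype) ((post incl).comp sN) (fun a => by
      rw [mem_kerPts, map_mul, map_inv]
      show pre ψ (post incl (sN a)) * (pre ψ (R₀ (post incl a.1)))⁻¹ = 1
      rw [hR₀, ← post_pre, hsN1, mul_inv_cancel])
  let T : WithConv (B →ₐ[k] K) → WithConv (A →ₐ[k] Ω) := fun g => u * R₀ (post incl g) * u⁻¹
  have hT : ∀ g, IsTor g → ∃ a : WithConv (A →ₐ[k] K), post incl a = T g ∧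
      ∀ γ : K ≃ₐ[k] K, post incl (post (γ : K →ₐ[k] K) a) = T (post (γ : K →ₐ[k] K) g) := by
    intro g hg
    obtain ⟨m, hm, hgm⟩ := hg
    have hn : ((N * m : ℕ) : k) ≠ 0 := by rw [Nat.cast_mul]; exact mul_ne_zero hN hm
    haveI := hsec _ hn
    obtain ⟨t, ht1, ht2⟩ := hhom _ hn
    let i : torN B K (k := k) N →* torN B K (k := k) (N * m) := (torN B K (k := k) N).subtype.codRestrict _ fun a => by
      rw [mem_torN, pow_mul]
      show (a.1 ^ N) ^ m = 1
      rw [mem_torN.mp a.2, one_pow]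
    obtain ⟨v, hv, hvconj, hvfix⟩ := exists_conj (U := kerPts K ψ) (kerPts_comm hJ)
      (kerPts_pow_bijective hJ hU (card_ne_zero hN)) (t.comp i) sN (fun a => by
        rw [mem_kerPts, map_mul, map_inv]
        show pre ψ (sN a) * (pre ψ (t (i a)))⁻¹ = 1
        rw [hsN1, ht1]
        exact mul_inv_cancel _)
    have hvγ : ∀ γ : K ≃ₐ[k] K, post (γ : K →ₐ[k] K) v = v := fun γ =>
      hvfix _ (torGal N γ) ⟨fun x hx => post_mem_kerPts _ hx, fun a => ht2 γ (i a)⟩ (fun a => hsN2 γ a)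
    let t' : torN B K (k := k) (N * m) →* WithConv (A →ₐ[k] K) :=
      { toFun := fun a => v * t a * v⁻¹
        map_one' := by rw [map_one, mul_one, mul_inv_cancel]
        map_mul' := fun a b => by rw [map_mul]; group }
    obtain ⟨w, hw, hwconj, -⟩ := exists_conj (U := kerPts Ω ψ) (kerPts_comm hJ)
      (kerPts_pow_bijective hJ hU (card_ne_zero hn))
      ((R₀.comp (post incl)).comp (torN B K (k := k) (N * m)).subtype) ((post incl).comp t') (fun a => by
        rw [mem_kerPts, map_mul, map_inv]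
        show pre ψ (post incl (v * t a * v⁻¹)) * (pre ψ (R₀ (post incl a.1)))⁻¹ = 1
        simp only [hR₀, ← post_pre, map_mul, map_inv, (mem_kerPts ψ).mp hv, map_one, one_mul, inv_one, mul_one, ht1,
          mul_inv_cancel])
    have hagree : ∀ a, post incl (t' a) = T a.1 := by
      intro a
      have hcen : ∀ g : {g : WithConv (B →ₐ[k] K) // IsTor g},
          (u⁻¹ * w) * R₀ (post incl g.1) * (u⁻¹ * w)⁻¹ = R₀ (post incl g.1) := by
        refine hs (u⁻¹ * w) fun g hg => ?_
        let a₀ : torN B K (k := k) N := ⟨g.1, hsN g hg⟩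
        have e1 : post incl (sN a₀) = u * R₀ (post incl g.1) * u⁻¹ := huconj a₀
        have e2 : post incl (t' (i a₀)) = w * R₀ (post incl g.1) * w⁻¹ := hwconj (i a₀)
        have e3 : t' (i a₀) = sN a₀ := (hvconj a₀).symm
        rw [e3, e1] at e2
        rw [show u⁻¹ * w * R₀ (post incl g.1) * (u⁻¹ * w)⁻¹ =
          u⁻¹ * (w * R₀ (post incl g.1) * w⁻¹) * u by group, ← e2]
        group
      have e := hcen ⟨a.1, N * m, hn, a.2⟩
      calc post incl (t' a) = w * R₀ (post incl a.1) * w⁻¹ := hwconj a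
        _ = u * ((u⁻¹ * w) * R₀ (post incl a.1) * (u⁻¹ * w)⁻¹) * u⁻¹ := by group
        _ = T a.1 := by rw [e]
    let a₁ : torN B K (k := k) (N * m) := ⟨g, by rw [mem_torN, mul_comm, pow_mul, hgm, one_pow]⟩
    refine ⟨t' a₁, hagree a₁, fun γ => ?_⟩
    have e : post (γ : K →ₐ[k] K) (t' a₁) = t' (torGal _ γ a₁) := by
      show post (γ : K →ₐ[k] K) (v * t a₁ * v⁻¹) = v * t (torGal _ γ a₁) * v⁻¹
      rw [map_mul, map_mul, map_inv, hvγ, ht2]
    rw [e, hagree]
    rfl
  -- the retraction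
  let u' := (res (k := k) (K := Ω) (C := A) (S := Ω)).symm u
  let r' : Ω ⊗[k] A →ₐc[Ω] Ω ⊗[k] B := r₀.comp (ExtUnipLib.ad u')
  have hev : ∀ (g : WithConv (B →ₐ[k] K)) (a : A), ev (post incl g) (r' ((1 : Ω) ⊗ₜ[k] a)) = (T g).ofConv a := by
    intro g a
    let F := (res (k := k) (K := Ω) (C := B) (S := Ω)).symm (post incl g)
    have h : res (k := k) (K := Ω) (C := A) (S := Ω)
        (toConv (((F.ofConv.comp (r₀ : Ω ⊗[k] A →ₐ[Ω] Ω ⊗[k] B))).comp
          ((ExtUnipLib.ad u' : Ω ⊗[k] A →ₐc[Ω] Ω ⊗[k] A) : Ω ⊗[k] A →ₐ[Ω] Ω ⊗[k] A))) = T g := by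
      rw [ExtUnipLib.toConv_comp_ad, map_mul, map_mul, map_inv,
        show pt Ω u' = u' from WithConv.ofConv_injective (AlgHom.ext fun z => rfl), MulEquiv.apply_symm_apply]
      rfl
    exact AlgHom.congr_fun (congrArg WithConv.ofConv h) a
  choose val hval1 hval2 using hT
  let vf : A → WithConv (B →ₐ[k] K) → K := fun a g => if hg : IsTor g then (val g hg).ofConv a else 0
  have hdesc : ∀ a, ∃ b : B, (1 : Ω) ⊗ₜ[k] b = r' ((1 : Ω) ⊗ₜ[k] a) := fun a => by
    refine exists_eq_one_tmul e _ (vf a) (fun g hg => ?_) (fun γ g hg => ?_)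
    · rw [hev, ← hval1 g hg]
      show incl ((val g hg).ofConv a) = algebraMap K Ω (vf a g)
      rw [show vf a g = (val g hg).ofConv a from dif_pos hg]
      rfl
    · obtain ⟨n, hn, hgn⟩ := hg
      have hγ : IsTor (post (γ : K →ₐ[k] K) g) := ⟨n, hn, by rw [← map_pow, hgn, map_one]⟩
      have h : post incl (post (γ : K →ₐ[k] K) (val g ⟨n, hn, hgn⟩)) = post incl (val _ hγ) := by
        rw [hval2, hval1]
      rw [show vf a g = (val g ⟨n, hn, hgn⟩).ofConv a from dif_pos ⟨n, hn, hgn⟩,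
        show vf a (post (γ : K →ₐ[k] K) g) = (val _ hγ).ofConv a from dif_pos hγ]
      exact incl.toRingHom.injective (AlgHom.congr_fun (congrArg WithConv.ofConv h) a)
  choose ra hra using hdesc
  have hinj : Function.Injective fun b : B => (1 : Ω) ⊗ₜ[k] b :=
    Algebra.TensorProduct.includeRight_injective (R := k) (A := Ω) (B := B) (algebraMap k Ω).injective
  let raHom : A →ₐ[k] B :=
    { toFun := ra
      map_one' := hinj (by simp only [hra, ← Algebra.TensorProduct.one_def, map_one])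
      map_mul' := fun a b => hinj (by
        simp only [hra]
        rw [← one_mul (1 : Ω), ← Algebra.TensorProduct.tmul_mul_tmul, map_mul, ← hra, ← hra,
          Algebra.TensorProduct.tmul_mul_tmul])
      map_zero' := hinj (by simp only [hra, tmul_zero, map_zero])
      map_add' := fun a b => hinj (by simp only [hra, tmul_add, map_add])
      commutes' := fun c => hinj (by
        simp only [hra]
        rw [Algebra.algebraMap_eq_smul_one, Algebra.algebraMap_eq_smul_one, TensorProduct.tmul_smul,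
          TensorProduct.tmul_smul, ← algebraMap_smul Ω, map_smul, ← Algebra.TensorProduct.one_def, map_one,
          algebraMap_smul, Algebra.TensorProduct.one_def]) }
  let gs : MultTypeLib.SemiBialgHom k Ω A (Ω ⊗[k] B) :=
    (MultTypeLib.SemiBialgHom.ofBialgHom r').comp (MultTypeLib.SemiBialgHom.baseChange k Ω A)
  have hgs : ∀ a, gs.toAlgHom a = (MultTypeLib.SemiBialgHom.baseChange k Ω B).toAlgHom (raHom a) := fun a => (hra a).symm
  let r : A →ₐc[k] B := BialgHom.ofAlgHom raHom (AlgHom.ext fun a => by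
      have h1 := gs.counit_comp a
      rw [hgs, (MultTypeLib.SemiBialgHom.baseChange k Ω B).counit_comp] at h1
      exact (algebraMap k Ω).injective h1) (AlgHom.ext fun a => by
      refine S16065.sq_injective (k' := Ω) ?_
      have h1 := gs.comul_comp a
      rw [hgs, (MultTypeLib.SemiBialgHom.baseChange k Ω B).comul_comp] at h1
      refine Eq.trans ?_ h1.symm
      show MultTypeLib.sq Ω _ (Algebra.TensorProduct.map raHom raHom (Coalgebra.comul (R := k) a)) = _
      generalize Coalgebra.comul (R := k) a = z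
      induction z using TensorProduct.induction_on with
      | zero => simp
      | add x y hx hy => simp only [map_add, hx, hy]
      | tmul x y => simp [hgs])
  refine ⟨r, BialgHom.ext fun b => hinj ?_⟩
  show (1 : Ω) ⊗ₜ[k] ra (ψ b) = (1 : Ω) ⊗ₜ[k] b
  rw [hra, ← sub_eq_zero]
  refine eq_zero_of_forall_ev' e _ fun g hg => ?_
  rw [map_sub, hev, ev_tmul, one_mul, sub_eq_zero]
  have h : pre ψ (T g) = post incl g := by
    simp only [T, map_mul, map_inv, (mem_kerPts ψ).mp hu, hR₀, one_mul, inv_one, mul_one]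
  exact AlgHom.congr_fun (congrArg WithConv.ofConv h) b

end Groth.Agent.AvgLib
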