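import Groth.Agent.AvgLib.Group
import Groth.Agent.UniPtsLib.Pow
import Groth.Agent.ExtUnipLib.Conj
import Groth.Agent.MultTypeLib.HopfKer
import Groth.Agent.MultTypeLib.Build

/-!
# The kernel of an extension on points
-/

set_option autoImplicit false
set_option backward.isDefEq.respectTransparency false
set_option backward.isDefEq.respectTransparency.types false

universe u

open TensorProduct WithConv

namespace Groth.Agent.AvgLib

open ExtUnipLib (pre convOne_eq)
open DynLib (post post_apply)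
open scoped DynLib

attribute [-instance] AlgHom.convGroup AlgHom.convInv

variable {k : Type u} [Field k] {A B : Type u} [CommRing A] [HopfAlgebra k A] [CommRing B] [HopfAlgebra k B]
  {S : Type u} [CommRing S] [Algebra k S]

theorem isCocomm_of_multTypeConst (hB : SGA3b.IsMultTypeConst k B) : Coalgebra.IsCocomm k B := by
  obtain ⟨R, _, _, hff, hd⟩ := hB
  haveI := hff
  exact MultTypeLib.isCocomm_of_isMultType (MultTypeLib.isMultType_of_ff R hd)

variable (S) in
/-- The points of the kernel. -/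
noncomputable def kerPts (ψ : B →ₐc[k] A) : Subgroup (WithConv (A →ₐ[k] S)) := (pre (S := S) ψ).ker

theorem mem_kerPts (ψ : B →ₐc[k] A) {u : WithConv (A →ₐ[k] S)} : u ∈ kerPts S ψ ↔ pre ψ u = 1 := MonoidHom.mem_ker

instance (ψ : B →ₐc[k] A) : (kerPts S ψ).Normal := inferInstanceAs (pre (S := S) ψ).ker.Normal

variable {ψ : B →ₐc[k] A} {J : Ideal A}
  (hJ : J = Ideal.map (ψ : B →+* A) (RingHom.ker (Bialgebra.counitAlgHom k B)))
include hJ

theorem apply_eq_zero_of_mem {u : WithConv (A →ₐ[k] S)} (hu : u ∈ kerPts S ψ) {a : A} (ha : a ∈ J) :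
    u.ofConv a = 0 := by
  rw [hJ] at ha
  refine (Ideal.map_le_iff_le_comap.mpr (fun c hc => ?_) : _ ≤ RingHom.ker u.ofConv.toRingHom) ha
  refine (AlgHom.congr_fun (congrArg WithConv.ofConv ((mem_kerPts ψ).mp hu)) c).trans ?_
  rw [convOne_eq]
  show algebraMap k S (Coalgebra.counit (R := k) c) = 0
  rw [show Coalgebra.counit (R := k) c = 0 from hc, map_zero]

theorem mem_kerPts_of_apply_eq_zero {u : WithConv (A →ₐ[k] S)} (hu : ∀ a ∈ J, u.ofConv a = 0) :
    u ∈ kerPts S ψ := by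
  refine (mem_kerPts ψ).mpr (WithConv.ofConv_injective (AlgHom.ext fun c => ?_))
  show u.ofConv (ψ c) = _
  have h := hu _ (hJ ▸ Ideal.mem_map_of_mem (ψ : B →+* A)
    (RingHom.mem_ker.mpr (show Bialgebra.counitAlgHom k _ (c - algebraMap k _ (Coalgebra.counit (R := k) c)) = 0 by simp)))
  rw [map_sub, map_sub, sub_eq_zero] at h
  refine h.trans ?_
  show u.ofConv (ψ (algebraMap k B _)) = algebraMap k S (Coalgebra.counit (R := k) c)
  rw [show ψ (algebraMap k B (Coalgebra.counit (R := k) c)) = algebraMap k A (Coalgebra.counit (R := k) c)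
    from (ψ : B →ₐ[k] A).commutes _, AlgHom.commutes]

variable [J.IsHopfIdeal k]

/-- Points of the kernel are points of the quotient Hopf algebra. -/
theorem exists_eq_pre_mk {u : WithConv (A →ₐ[k] S)} (hu : u ∈ kerPts S ψ) :
    ∃ v : WithConv ((A ⧸ J) →ₐ[k] S), pre (Bialgebra.Quotient.mkBialgHom (R := k) J) v = u :=
  ⟨toConv (Ideal.Quotient.liftₐ J u.ofConv fun _ ha => apply_eq_zero_of_mem hJ hu ha),
    WithConv.ofConv_injective (AlgHom.ext fun _ => rfl)⟩

omit hJ in
theorem pre_mk_injective :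
    Function.Injective (pre (S := S) (Bialgebra.Quotient.mkBialgHom (R := k) J : A →ₐc[k] A ⧸ J)) := fun v w h =>
  WithConv.ofConv_injective (Ideal.Quotient.algHom_ext k (congrArg WithConv.ofConv h))

theorem pre_mk_mem (v : WithConv ((A ⧸ J) →ₐ[k] S)) :
    pre (Bialgebra.Quotient.mkBialgHom (R := k) J) v ∈ kerPts S ψ :=
  mem_kerPts_of_apply_eq_zero hJ fun a ha => by
    show v.ofConv (Ideal.Quotient.mk J a) = 0
    rw [Ideal.Quotient.eq_zero_iff_mem.mpr ha, map_zero]

theorem kerPts_comm [Coalgebra.IsCocomm k (A ⧸ J)] (x y : kerPts S ψ) : x * y = y * x := by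
  obtain ⟨v, hv⟩ := exists_eq_pre_mk hJ x.2
  obtain ⟨w, hw⟩ := exists_eq_pre_mk hJ y.2
  refine Subtype.ext ?_
  rw [Subgroup.coe_mul, Subgroup.coe_mul, ← hv, ← hw, ← map_mul, ← map_mul, mul_comm v w]

theorem kerPts_pow_bijective (hU : HopfRep.IsUnipotent k (A ⧸ J)) {n : ℕ} (hn : (n : k) ≠ 0) :
    Function.Bijective fun x : kerPts S ψ => x ^ n := by
  have hb := UniPtsLib.pow_bijective (R := S) hU hn
  refine ⟨fun x y hxy => ?_, fun x => ?_⟩
  · obtain ⟨v, hv⟩ := exists_eq_pre_mk hJ x.2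
    obtain ⟨w, hw⟩ := exists_eq_pre_mk hJ y.2
    have h : (x : WithConv (A →ₐ[k] S)) ^ n = (y : WithConv (A →ₐ[k] S)) ^ n := congrArg Subtype.val hxy
    rw [← hv, ← hw, ← map_pow, ← map_pow] at h
    exact Subtype.ext (by rw [← hv, ← hw, hb.1 (pre_mk_injective h)])
  · obtain ⟨v, hv⟩ := exists_eq_pre_mk hJ x.2
    obtain ⟨w, hw⟩ := hb.2 v
    exact ⟨⟨_, pre_mk_mem hJ w⟩, Subtype.ext (by
      rw [SubmonoidClass.coe_pow, ← map_pow, show w ^ n = v from hw, hv])⟩

end Groth.Agent.AvgLib
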