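import Groth.Agent.AvgLib.Setup
import Groth.Agent.ExtUnipLib.BaseChange
import Groth.Agent.QRepLib.Naive
import Mathlib.GroupTheory.FiniteAbelian.Basic
import Mathlib.FieldTheory.IsSepClosed
import Mathlib.FieldTheory.SeparableClosure
import Mathlib.RingTheory.RootsOfUnity.EnoughRootsOfUnity
import Mathlib.GroupTheory.Perm.Cycle.Type
import Mathlib.LinearAlgebra.Dual.Lemmas
import Mathlib.RingTheory.AlgebraTower

/-!
# Torsion points of smooth groups of multiplicative type
-/

set_option autoImplicit false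
set_option backward.isDefEq.respectTransparency false
set_option backward.isDefEq.respectTransparency.types false

universe u

open TensorProduct WithConv

namespace Groth.Agent.AvgLib

open ExtUnipLib (pre convOne_eq mul_apply_groupLike)
open DynLib (post post_apply)
open scoped DynLib

attribute [-instance] AlgHom.convGroup AlgHom.convInv

section Res

variable {k : Type u} [CommRing k] {K : Type u} [CommRing K] [Algebra k K] {C : Type u} [CommRing C] [HopfAlgebra k C]
  {S : Type u} [CommRing S] [Algebra k S] [Algebra K S] [IsScalarTower k K S]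

/-- Points of a base change. -/
noncomputable def res : WithConv ((K ⊗[k] C) →ₐ[K] S) ≃* WithConv (C →ₐ[k] S) where
  toFun F := toConv ((Algebra.TensorProduct.liftEquivRight k K C S).symm F.ofConv)
  invFun f := toConv (Algebra.TensorProduct.liftEquivRight k K C S f.ofConv)
  left_inv F := WithConv.ofConv_injective ((Algebra.TensorProduct.liftEquivRight k K C S).apply_symm_apply F.ofConv)
  right_inv f := WithConv.ofConv_injective ((Algebra.TensorProduct.liftEquivRight k K C S).symm_apply_apply f.ofConv)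
  map_mul' F G := WithConv.ofConv_injective (AlgHom.ext fun c => by
    show (F * G).ofConv ((1 : K) ⊗ₜ[k] c) = _
    rw [show F = toConv F.ofConv from rfl, show G = toConv G.ofConv from rfl, GrpSchLib.HopfQuot.convMul_apply,
      GrpSchLib.HopfQuot.convMul_apply]
    simp only [TensorProduct.comul_tmul, Bialgebra.comul_one, Algebra.TensorProduct.one_def]
    induction Coalgebra.comul (R := k) c using TensorProduct.induction_on with
    | zero => simp
    | tmul x y => rfl
    | add x y hx hy => simp only [tmul_add, map_add, hx, hy])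

theorem res_apply (F : WithConv ((K ⊗[k] C) →ₐ[K] S)) (c : C) :
    (res F).ofConv c = F.ofConv ((1 : K) ⊗ₜ[k] c) := rfl

theorem res_symm_tmul (f : WithConv (C →ₐ[k] S)) (x : K) (c : C) :
    ((res (k := k) (K := K)).symm f).ofConv (x ⊗ₜ[k] c) = algebraMap K S x * f.ofConv c := rfl

end Res

variable {k : Type u} [Field k] {B : Type u} [CommRing B] [HopfAlgebra k B] {K : Type u} [Field K] [Algebra k K]
  {M : Type u} [CommGroup M] (e : K ⊗[k] B ≃ₐc[K] MonoidAlgebra K M)
  {S : Type u} [CommRing S] [Algebra k S] [Algebra K S] [IsScalarTower k K S]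

/-- The group-like elements of the split group. -/
noncomputable def grpLike (m : M) : K ⊗[k] B := e.symm (MonoidAlgebra.single m 1)

theorem comul_grpLike (m : M) :
    Coalgebra.comul (R := K) (grpLike e m) = grpLike e m ⊗ₜ[K] grpLike e m := by
  rw [grpLike, show e.symm (MonoidAlgebra.single m 1) =
    (e.symm : MonoidAlgebra K M →ₐc[K] K ⊗[k] B) (MonoidAlgebra.single m 1) from rfl,
    ← CoalgHomClass.map_comp_comul_apply]
  simp

/-- The character of the lattice attached to a point. -/
noncomputable def charOf (h : WithConv (B →ₐ[k] S)) : M →* S :=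
  (((res (k := k) (K := K)).symm h).ofConv.comp
    ((e.symm : MonoidAlgebra K M →ₐc[K] K ⊗[k] B) : MonoidAlgebra K M →ₐ[K] K ⊗[k] B)).toMonoidHom.comp
    (MonoidAlgebra.of K M)

theorem charOf_apply (h : WithConv (B →ₐ[k] S)) (m : M) :
    charOf e h m = ((res (k := k) (K := K)).symm h).ofConv (grpLike e m) := rfl

/-- The point attached to a character. -/
noncomputable def ptOf (χ : M →* S) : WithConv (B →ₐ[k] S) :=
  res (toConv ((MonoidAlgebra.lift K S M χ).comp
    ((e : K ⊗[k] B →ₐc[K] MonoidAlgebra K M) : K ⊗[k] B →ₐ[K] MonoidAlgebra K M)))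

theorem charOf_ptOf (χ : M →* S) : charOf e (ptOf e χ) = χ := MonoidHom.ext fun m => by
  rw [charOf_apply, ptOf, MulEquiv.symm_apply_apply]
  show MonoidAlgebra.lift K S M χ (e (e.symm (MonoidAlgebra.single m 1))) = χ m
  rw [show e (e.symm (MonoidAlgebra.single m (1 : K))) = MonoidAlgebra.single m 1 from e.toEquiv.apply_symm_apply _,
    MonoidAlgebra.lift_single, one_smul]

theorem charOf_injective : Function.Injective (charOf e : WithConv (B →ₐ[k] S) → M →* S) := fun h h' hh => by
  refine (res (k := k) (K := K)).symm.injective (WithConv.ofConv_injective (AlgHom.ext fun z => ?_))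
  obtain ⟨w, rfl⟩ : ∃ w, (e.symm : MonoidAlgebra K M →ₐc[K] K ⊗[k] B) w = z :=
    ⟨e z, e.toEquiv.symm_apply_apply z⟩
  induction w using MonoidAlgebra.induction_linear with
  | zero => simp
  | add x y hx hy => simp only [map_add, hx, hy]
  | single m c =>
    rw [show MonoidAlgebra.single m c = c • MonoidAlgebra.single m 1 by rw [MonoidAlgebra.smul_single, smul_eq_mul, mul_one],
      map_smul, map_smul, map_smul]
    exact congrArg (c • ·) (DFunLike.congr_fun hh m)

theorem charOf_mul (h h' : WithConv (B →ₐ[k] S)) (m : M) : charOf e (h * h') m = charOf e h m * charOf e h' m := by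
  rw [charOf_apply, (res (k := k) (K := K) (C := B) (S := S)).symm.map_mul h h']
  exact mul_apply_groupLike _ _ (comul_grpLike e m)

theorem charOf_one (m : M) : charOf e (1 : WithConv (B →ₐ[k] S)) m = 1 := by
  rw [charOf_apply, map_one, AlgHom.convOne_apply]
  show algebraMap K S (Coalgebra.counit (R := K) (grpLike e m)) = 1
  rw [grpLike, show e.symm (MonoidAlgebra.single m 1) =
    (e.symm : MonoidAlgebra K M →ₐc[K] K ⊗[k] B) (MonoidAlgebra.single m 1) from rfl,
    CoalgHomClass.counit_comp_apply]
  simp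

theorem charOf_pow (h : WithConv (B →ₐ[k] S)) (n : ℕ) (m : M) : charOf e (h ^ n) m = charOf e h m ^ n := by
  induction n with
  | zero => rw [pow_zero, pow_zero, charOf_one]
  | succ n ih => rw [pow_succ, pow_succ, charOf_mul, ih]

include e in
theorem finite_torsion [IsDomain S] [Group.FG M] {n : ℕ} (hn : 0 < n) :
    Finite {h : WithConv (B →ₐ[k] S) // h ^ n = 1} := by
  classical
  obtain ⟨s, hs⟩ := Group.fg_def.mp (inferInstance : Group.FG M)
  let f : {h : WithConv (B →ₐ[k] S) // h ^ n = 1} → (s → Polynomial.nthRootsFinset n (1 : S)) := fun h m =>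
    ⟨charOf e h.1 m, (Polynomial.mem_nthRootsFinset hn (1 : S)).mpr (by rw [← charOf_pow, h.2, charOf_one])⟩
  refine Finite.of_injective f fun h h' hh => Subtype.ext (charOf_injective e ?_)
  have h1 : Set.EqOn (charOf e h.1).toHomUnits (charOf e h'.1).toHomUnits s := fun m hm =>
    Units.ext (congrArg Subtype.val (congrFun hh ⟨m, hm⟩))
  have h2 := MonoidHom.eq_of_eqOn_top (hs ▸ MonoidHom.eqOn_closure h1)
  exact MonoidHom.ext fun m => congrArg Units.val (DFunLike.congr_fun h2 m)

/-- In a reduced group algebra the lattice has no torsion of characteristic order. -/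
theorem eq_one_of_pow_charExp [_root_.IsReduced (MonoidAlgebra K M)] (i : ℕ) {m : M}
    (h : m ^ ringExpChar K ^ i = 1) : m = 1 :=
  ExtUnipLib.isUnit_single_sub_one (k := K) (p := ringExpChar K) i rfl h

/-- Nontrivial elements are detected in a finite quotient of invertible order. -/
theorem exists_hom_zmod {p : ℕ} (hp : p = 1 ∨ p.Prime) (G : Type u) [CommGroup G] [Group.FG G]
    (htor : ∀ i : ℕ, ∀ g : G, g ^ p ^ i = 1 → g = 1) {g : G} (hg : g ≠ 1) :
    ∃ (n : ℕ) (f : G →* Multiplicative (ZMod n)), 0 < n ∧ (p ≠ 1 → ¬p ∣ n) ∧ f g ≠ 1 := by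
  classical
  obtain ⟨r, ι, _, q, hq, e', ⟨E⟩⟩ := AddCommGroup.equiv_free_prod_directSum_zmod (Additive G)
  set z := E (Additive.ofMul g) with hz
  have hz0 : z ≠ 0 := fun h => hg (Additive.ofMul.injective (E.injective (h.trans (map_zero E).symm)))
  by_cases hfree : ∃ j, z.1 j ≠ 0
  · obtain ⟨j, hj⟩ := hfree
    obtain ⟨ℓ, hℓ, hℓp⟩ := Nat.exists_infinite_primes (max p (z.1 j).natAbs + 1)
    refine ⟨ℓ, AddMonoidHom.toMultiplicativeRight
      ((Int.castAddHom (ZMod ℓ)).comp ((Finsupp.applyAddHom j).comp ((AddMonoidHom.fst _ _).comp E.toAddMonoidHom))),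
      hℓp.pos, fun h1 hd => ?_, fun h => ?_⟩
    · have := (Nat.prime_dvd_prime_iff_eq (hp.resolve_left h1) hℓp).mp hd
      omega
    · have h2 : ((z.1 j : ℤ) : ZMod ℓ) = 0 := h
      have h3 := Int.natCast_dvd.mp ((ZMod.intCast_zmod_eq_zero_iff_dvd _ _).mp h2)
      have := Nat.le_of_dvd (Int.natAbs_pos.mpr hj) h3
      omega
  push Not at hfree
  have h1 : z.1 = 0 := Finsupp.ext hfree
  obtain ⟨i, hi⟩ : ∃ i, z.2 i ≠ 0 := by
    by_contra h
    push Not at h
    exact hz0 (Prod.ext h1 (DFinsupp.ext h))
  refine ⟨q i ^ e' i, AddMonoidHom.toMultiplicativeRight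
    ((DFinsupp.evalAddMonoidHom i).comp ((AddMonoidHom.snd _ _).comp E.toAddMonoidHom)), pow_pos (hq i).pos _,
    fun hp1 hd => ?_, fun h => hi h⟩
  have hqp : p = q i := (Nat.prime_dvd_prime_iff_eq (hp.resolve_left hp1) (hq i)).mp
    ((hp.resolve_left hp1).dvd_of_dvd_pow hd)
  let x : G := Additive.toMul (E.symm (0, DirectSum.of (fun i => ZMod (q i ^ e' i)) i 1))
  have hx : x ^ p ^ e' i = 1 := by
    apply Additive.ofMul.injective
    refine E.injective ?_
    rw [ofMul_pow, map_nsmul, ofMul_one, map_zero]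
    show p ^ e' i • E (E.symm _) = 0
    rw [E.apply_symm_apply, Prod.smul_mk, smul_zero, ← map_nsmul, nsmul_one, hqp,
      ZMod.natCast_self, map_zero, Prod.mk_zero_zero]
  have hx1 := congrArg (fun y => (E (Additive.ofMul y)).2 i) (htor _ x hx)
  simp only [x, ofMul_toMul, E.apply_symm_apply, DirectSum.of_eq_same, ofMul_one, map_zero, Prod.snd_zero] at hx1
  exact hi (by
    have h0 : (1 : ZMod (q i ^ e' i)) = 0 := hx1
    calc z.2 i = z.2 i * 1 := (mul_one _).symm
      _ = 0 := by rw [h0, mul_zero])

/-- Torsion characters of invertible order separate the lattice. -/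
theorem exists_char [IsSepClosed K] [Group.FG M] [_root_.IsReduced (MonoidAlgebra K M)] {m : M} (hm : m ≠ 1) :
    ∃ (n : ℕ) (χ : M →* K), (n : K) ≠ 0 ∧ (∀ x, χ x ^ n = 1) ∧ χ m ≠ 1 := by
  obtain ⟨n, f, hn, hpn, hf⟩ := exists_hom_zmod ((expChar_is_prime_or_one K (ringExpChar K)).symm.imp id id) M
    (fun i g => eq_one_of_pow_charExp i) hm
  have hnK : (n : K) ≠ 0 := by
    intro h
    obtain ⟨p, hp⟩ := CharP.exists K
    rcases CharP.char_is_prime_or_zero K p with hpp | rfl
    · haveI : ExpChar K p := ExpChar.prime hpp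
      rw [ringExpChar.eq K p] at hpn
      exact hpn hpp.ne_one ((CharP.cast_eq_zero_iff K p n).mp h)
    · exact hn.ne' (Nat.eq_zero_of_zero_dvd ((CharP.cast_eq_zero_iff K 0 n).mp h))
  haveI : NeZero (n : K) := ⟨hnK⟩
  obtain ⟨ζ, hζ⟩ := HasEnoughRootsOfUnity.exists_primitiveRoot K n
  haveI : NeZero n := ⟨hn.ne'⟩
  obtain ⟨ζ', hζ'⟩ : ∃ ζ' : Kˣ, IsPrimitiveRoot ζ' n :=
    ⟨(hζ.isUnit hn.ne').unit, IsPrimitiveRoot.coe_units_iff.mp hζ⟩
  let φ : Multiplicative (ZMod n) →* Kˣ :=
    (Subgroup.zpowers ζ').subtype.comp (AddMonoidHom.toMultiplicativeLeft hζ'.zmodEquivZPowers.toAddMonoidHom)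
  have hφ : Function.Injective φ := fun x y h =>
    Multiplicative.toAdd.injective (hζ'.zmodEquivZPowers.injective (Additive.toMul.injective (Subtype.ext h)))
  refine ⟨n, (Units.coeHom K).comp (φ.comp f), hnK, fun x => ?_, fun h => hf (hφ ?_)⟩
  · show ((φ (f x) : Kˣ) : K) ^ n = 1
    rw [← Units.val_pow_eq_pow_val, ← map_pow,
      show f x ^ n = 1 from Multiplicative.toAdd.injective (by rw [toAdd_pow, nsmul_eq_mul, ZMod.natCast_self, zero_mul]; rfl),
      map_one, Units.val_one]
  · rw [map_one]
    exact Units.ext h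

/-- Torsion points of invertible order. -/
def IsTor (h : WithConv (B →ₐ[k] S)) : Prop := ∃ n : ℕ, (n : k) ≠ 0 ∧ h ^ n = 1

/-- The evaluation characters at torsion points are linearly independent. -/
theorem linearIndependent_charOf [IsSepClosed K] [Group.FG M] [_root_.IsReduced (MonoidAlgebra K M)] [IsDomain S] :
    LinearIndependent S (fun (m : M) => fun (h : {h : WithConv (B →ₐ[k] S) // IsTor h}) => charOf e h.1 m) := by
  let T : Submonoid (WithConv (B →ₐ[k] S)) :=
    { carrier := {h | IsTor h}
      one_mem' := ⟨1, by simp, one_pow 1⟩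
      mul_mem' := fun {a b} ⟨n, hn, ha⟩ ⟨n', hn', hb⟩ => ⟨n * n', by
        rw [Nat.cast_mul]; exact mul_ne_zero hn hn', charOf_injective e (MonoidHom.ext fun m => by
          rw [charOf_pow, charOf_mul, mul_pow, ← charOf_pow, ← charOf_pow, pow_mul, ha, one_pow,
            mul_comm n n', pow_mul, hb, one_pow, charOf_one, mul_one])⟩ }
  let ev : M → T →* S := fun m =>
    { toFun := fun h => charOf e h.1 m
      map_one' := charOf_one e m
      map_mul' := fun a b => charOf_mul e a.1 b.1 m }
  have hinj : Function.Injective ev := by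
    intro m m' h
    by_contra hne
    obtain ⟨n, χ, hn, hχn, hχ⟩ := exists_char (K := K) (m := m / m') (mt div_eq_one.mp hne)
    let χS : M →* S := (algebraMap K S : K →* S).comp χ
    have ht : IsTor (ptOf e χS) := by
      refine ⟨n, fun h0 => hn (by rw [← map_natCast (algebraMap k K), h0, map_zero]), ?_⟩
      refine charOf_injective e (MonoidHom.ext fun x => ?_)
      rw [charOf_pow, charOf_ptOf, charOf_one]
      show algebraMap K S (χ x) ^ n = 1
      rw [← map_pow, hχn, map_one]
    have h2 : algebraMap K S (χ m) = algebraMap K S (χ m') := by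
      have h3 := DFunLike.congr_fun h (⟨_, ht⟩ : T)
      change charOf e (ptOf e χS) m = charOf e (ptOf e χS) m' at h3
      rw [charOf_ptOf] at h3
      exact h3
    exact hχ (by
      have h4 : χ (m / m') * χ m' = χ m := by rw [← map_mul, div_mul_cancel]
      have h5 : χ m' ≠ 0 := fun h0 => by
        have h6 := hχn m'
        rw [h0, zero_pow fun hn0 => hn (by rw [hn0, Nat.cast_zero])] at h6
        exact zero_ne_one h6
      rw [(algebraMap K S).injective h2] at h4
      exact mul_right_cancel₀ h5 (h4.trans (one_mul _).symm))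
  exact (linearIndependent_monoidHom T S).comp ev hinj

end Groth.Agent.AvgLib
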